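import Groth.Agent.Et18.H0Lift.BaseChangeRed
import Groth.Agent.Et18.Descent0.ExtRetract
import Groth.Agent.Et18.Support
import Groth.Agent.Et18.Recollement
import Groth.Agent.Et18.Restr
import Groth.Agent.Et18.StalkIndep
import Groth.Agent.Et18.JCont
import Mathlib.AlgebraicGeometry.Geometrically.Reduced

/-!
# Inverse images preserving products
-/

set_option autoImplicit false
set_option linter.all false
set_option backward.isDefEq.respectTransparency.types false
set_option backward.isDefEq.respectTransparency false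
set_option backward.defeqAttrib.useBackward true
set_option synthInstance.maxHeartbeats 400000
set_option maxHeartbeats 1000000

universe u

open CategoryTheory Limits AlgebraicGeometry Opposite
open Groth.Agent.Et18 Groth.Agent.Et18.H0Lift

namespace Groth.Agent.EtProd

variable {X S : Scheme.{u}}

/-- A projection is invertible after a product preserving functor killing the other factors. -/
theorem isIso_map_proj {C D : Type*} [Category* C] [Category* D] [HasZeroMorphisms D] {ι : Type*} (A : ι → C)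
    {c : Fan A} (hc : IsLimit c) (P : C ⥤ D) [PreservesLimit (Discrete.functor A) P] (k : ι)
    (hz : ∀ l, l ≠ k → IsZero (P.obj (A l))) : IsIso (P.map (c.proj k)) := by
  classical
  have hl := isLimitFanMkObjOfIsLimit P A c.proj
    (hc.ofIsoLimit (Fan.ext (Iso.refl _) fun j => (Category.id_comp _).symm))
  let fam : ∀ l, P.obj (A k) ⟶ P.obj (A l) := fun l => if h : l = k then eqToHom (by rw [h]) else 0
  refine ⟨Fan.IsLimit.desc hl fam, ?_, (Fan.IsLimit.fac hl fam k).trans (by simp [fam])⟩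
  refine Fan.IsLimit.hom_ext hl _ _ fun l => ?_
  rw [Category.assoc, Category.id_comp]
  refine (congrArg (P.map (c.proj k) ≫ ·) (Fan.IsLimit.fac hl fam l)).trans ?_
  by_cases h : l = k
  · subst h; simp [fam]
  · exact (hz l h).eq_of_tgt _ _

/-- A projection is invertible on stalks in its component. -/
theorem isIso_stalk_proj {T : Scheme.{u}} {ι : Type u} (U : ι → T.Opens) (A : ι → EtCoh.Ab T)
    (hA : ∀ l k, l ≠ k → ∀ x ∈ U k, IsZero ((EtCoh.stalk (sepPoint T x)).obj (A l)))
    {c : Fan A} (hc : IsLimit c) {k : ι} {x : T} (hx : x ∈ U k) {Ω : Type u} [Field Ω] [IsSepClosed Ω]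
    (η : Spec (CommRingCat.of Ω) ⟶ T) (hη : η default = x) :
    IsIso ((EtCoh.stalk η).map (c.proj k)) := by
  obtain ⟨v, hv, -⟩ := Scheme.exists_fac_of_etale_of_isSepClosed (U k).ι η ⟨x, hx⟩ hη.symm
  haveI : IsIso ((EtCoh.pull (U k).ι).map (c.proj k)) := by
    haveI : EtShriek.JCont (U k).ι := Et18.jCont _
    haveI : (EtCoh.pull (U k).ι).IsRightAdjoint :=
      ((EtShriek.extZeroAdj (U k).ι).ofNatIsoRight (Et18.pullRestrIso (U k).ι).symm).isRightAdjoint
    refine isIso_map_proj A hc (EtCoh.pull (U k).ι) k fun l hl => isZero_of_stalks fun y => ?_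
    refine IsZero.of_iso ?_ ((stalkPullIso (U k).ι (sepPoint _ y)).app (A l))
    have hy : ((U k).ι y) ∈ U k := y.2
    obtain ⟨h1⟩ : Nonempty ((EtCoh.stalk (sepPoint _ y ≫ (U k).ι)).obj (A l) ≅
        (EtCoh.stalk (sepPoint T ((U k).ι y))).obj (A l)) :=
      nonempty_stalk_iso_of_eq _ _ (by rw [Scheme.Hom.comp_apply, sepPoint_default, sepPoint_default]) (A l)
    exact IsZero.of_iso (hA l k hl _ hy) h1
  rw [← hv]
  exact isIso_stalk_map_of_pull (U k).ι v (c.proj k)

/-- Direct image along the identity. -/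
noncomputable def pushIdIso (X : Scheme.{u}) : EtCoh.push (𝟙 X) ≅ 𝟭 (EtCoh.Ab X) :=
  Functor.sheafPushforwardContinuousId' (Descent0.bcIdIso X) AddCommGrpCat.{u + 1} X.smallEtaleTopology

theorem baseChange0_naturality {X Y X' Y' : Scheme.{u}} (f : X ⟶ Y) (g : Y' ⟶ Y) (f' : X' ⟶ Y')
    (g' : X' ⟶ X) (w : g' ≫ f = f' ≫ g) {F G : EtCoh.Ab X} (a : F ⟶ G) :
    (EtCoh.pull g).map ((EtCoh.push f).map a) ≫ EtCoh.baseChange0 f g f' g' w G =
      EtCoh.baseChange0 f g f' g' w F ≫ (EtCoh.push f').map ((EtCoh.pull g').map a) := by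
  unfold EtCoh.baseChange0
  rw [← Adjunction.homEquiv_naturality_left_symm, ← Adjunction.homEquiv_naturality_right_symm]
  congr 1
  have h1 : (EtCoh.push f).map a ≫ (EtCoh.push f).map ((EtCoh.pullPushAdj g').unit.app G) =
      (EtCoh.push f).map ((EtCoh.pullPushAdj g').unit.app F) ≫
        (EtCoh.push f).map ((EtCoh.push g').map ((EtCoh.pull g').map a)) := by
    rw [← Functor.map_comp, ← Functor.map_comp]
    exact congrArg _ ((EtCoh.pullPushAdj g').unit.naturality a)
  let T := (EtCoh.pushComp f g').hom ≫ (EtCoh.pushCongr w).hom ≫ (EtCoh.pushComp g f').inv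
  have h2 := T.naturality ((EtCoh.pull g').map a)
  simp only [T, NatTrans.comp_app, Functor.comp_map, Category.assoc] at h2
  simp only [Category.assoc]
  rw [reassoc_of% h1]
  exact congrArg _ h2

/-- Inverse images along flat morphisms of finite presentation with geometrically reduced fibres
preserve products. -/
theorem preserves_product (f : X ⟶ S) [Flat f] [LocallyOfFinitePresentation f] (hred : GeomRedFibres f)
    {ι : Type u} (F : ι → EtCoh.Ab S) : PreservesLimit (Discrete.functor F) (EtCoh.pull f) := by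
  let T : Scheme.{u} := ∐ fun _ : ι => S
  let j : ι → (S ⟶ T) := Sigma.ι fun _ : ι => S
  let g : T ⟶ S := Sigma.desc fun _ : ι => 𝟙 S
  have hjg : ∀ k, j k ≫ g = 𝟙 S := fun k => Sigma.ι_desc _ k
  let U : ι → T.Opens := fun k => (j k).opensRange
  have hdis : ∀ l k, l ≠ k → Disjoint (U l : Set T) (U k : Set T) := fun l k h =>
    Set.disjoint_left.2 fun x h1 h2 =>
      (disjoint_opensRange_sigmaι (fun _ : ι => S) l k h).le_bot ⟨h1, h2⟩
  let A : ι → EtCoh.Ab T := fun k => (EtCoh.push (j k)).obj (F k)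
  have hA : ∀ l k, l ≠ k → ∀ x ∈ U k, IsZero ((EtCoh.stalk (sepPoint T x)).obj (A l)) := fun l k h x hx =>
    isZero_stalk_push_of_disjoint (j l) (F l) (sepPoint T x) (U k) ((sepPoint_default T x).symm ▸ hx)
      (hdis k l h.symm)
  let e := pullback.fst g f
  let h := pullback.snd g f
  have hc : IsPullback e h g f := IsPullback.of_hasPullback g f
  let V : ι → (pullback g f).Opens := fun k => e ⁻¹ᵁ U k
  let B : ι → EtCoh.Ab (pullback g f) := fun k => (EtCoh.pull e).obj (A k)
  have hB : ∀ l k, l ≠ k → ∀ y ∈ V k, IsZero ((EtCoh.stalk (sepPoint _ y)).obj (B l)) := fun l k hlk y hy => by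
    refine IsZero.of_iso ?_ ((stalkPullIso e (sepPoint _ y)).app (A l))
    obtain ⟨h1⟩ : Nonempty ((EtCoh.stalk (sepPoint _ y ≫ e)).obj (A l) ≅ (EtCoh.stalk (sepPoint T (e y))).obj (A l)) :=
      nonempty_stalk_iso_of_eq _ _ (by rw [Scheme.Hom.comp_apply, sepPoint_default, sepPoint_default]) (A l)
    exact IsZero.of_iso (hA l k hlk _ hy) h1
  let π := Pi.π A
  let cP : Fan A := Fan.mk (∏ᶜ A) π
  have hcP : IsLimit cP := productIsProduct A
  let φ : (EtCoh.pull e).obj (∏ᶜ A) ⟶ ∏ᶜ B := Pi.lift fun k => (EtCoh.pull e).map (π k)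
  haveI hφ : IsIso φ := isIso_of_stalks _ fun y => by
    obtain ⟨k, s, hs⟩ := (sigmaOpenCover fun _ : ι => S).exists_eq (e y)
    have hy : y ∈ V k := ⟨s, hs⟩
    have he : φ ≫ Pi.π B k = (EtCoh.pull e).map (π k) := Pi.lift_π _ k
    haveI h1 : IsIso ((EtCoh.stalk (sepPoint _ y)).map (Pi.π B k)) :=
      isIso_stalk_proj V B hB (c := Fan.mk (∏ᶜ B) (Pi.π B)) (productIsProduct B) hy _ (sepPoint_default _ y)
    haveI h2 : IsIso ((EtCoh.stalk (sepPoint _ y ≫ e)).map (π k)) :=
      isIso_stalk_proj U A hA (c := cP) hcP (⟨s, hs⟩ : e y ∈ U k) _ (by rw [Scheme.Hom.comp_apply, sepPoint_default])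
    haveI h3 : IsIso ((EtCoh.stalk (sepPoint _ y)).map ((EtCoh.pull e).map (π k))) :=
      (NatIso.isIso_map_iff (stalkPullIso e (sepPoint _ y)) (π k)).mpr h2
    rw [← he, Functor.map_comp] at h3
    exact IsIso.of_isIso_comp_right _ ((EtCoh.stalk (sepPoint _ y)).map (Pi.π B k))
  haveI := fun G => isIso_baseChange0_of_geomRed f g h e hc G hred
  let β : ∀ G, (EtCoh.pull f).obj ((EtCoh.push g).obj G) ≅ (EtCoh.push h).obj ((EtCoh.pull e).obj G) :=
    fun G => asIso (EtCoh.baseChange0 g f h e hc.w G)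
  haveI : PreservesLimitsOfSize.{u, u} (EtCoh.push g) := (EtCoh.pullPushAdj g).rightAdjoint_preservesLimits
  haveI : PreservesLimitsOfSize.{u, u} (EtCoh.push h) := (EtCoh.pullPushAdj h).rightAdjoint_preservesLimits
  have hg := isLimitFanMkObjOfIsLimit (EtCoh.push g) A π hcP
  have he : IsLimit (Fan.mk ((EtCoh.pull e).obj (∏ᶜ A)) fun k => (EtCoh.pull e).map (π k)) :=
    (productIsProduct B).ofIsoLimit (Fan.ext (asIso φ).symm fun k => by
      change _ = (asIso φ).inv ≫ (EtCoh.pull e).map (π k)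
      rw [Iso.eq_inv_comp]
      exact Pi.lift_π _ k)
  have hh := isLimitFanMkObjOfIsLimit (EtCoh.push h) B _ he
  have hnat : ∀ k, (EtCoh.pull f).map ((EtCoh.push g).map (π k)) ≫ (β (A k)).hom =
      (β (∏ᶜ A)).hom ≫ (EtCoh.push h).map ((EtCoh.pull e).map (π k)) := fun k =>
    baseChange0_naturality g f h e hc.w (π k)
  let G : ι → EtCoh.Ab S := fun k => (EtCoh.push g).obj (A k)
  haveI : PreservesLimit (Discrete.functor G) (EtCoh.pull f) := by
    refine preservesLimit_of_preserves_limit_cone hg ((isLimitMapConeFanMkEquiv (EtCoh.pull f) G _).symm ?_)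
    refine (IsLimit.postcomposeHomEquiv (Discrete.natIso fun k => β (A k.as) :
      Discrete.functor (fun k => (EtCoh.pull f).obj (G k)) ≅ Discrete.functor fun k => (EtCoh.push h).obj (B k)) _).1 ?_
    refine hh.ofIsoLimit (Fan.ext (β (∏ᶜ A)).symm fun k => ?_)
    change _ = (β (∏ᶜ A)).inv ≫ ((EtCoh.pull f).map ((EtCoh.push g).map (π k)) ≫ (β (A k)).hom)
    rw [hnat, Iso.inv_hom_id_assoc]
    rfl
  exact preservesLimit_of_iso_diagram (EtCoh.pull f) (K₁ := Discrete.functor G) (Discrete.natIso fun k =>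
    (EtCoh.pushComp g (j k.as)).app (F k.as) ≪≫ (EtCoh.pushCongr (hjg k.as)).app (F k.as) ≪≫ (pushIdIso S).app (F k.as))

end Groth.Agent.EtProd
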